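import Mathlib.Data.Nat.Choose.Lucas
import Mathlib.Algebra.CharP.Basic
import Mathlib.Algebra.Polynomial.Coeff
import Mathlib.Algebra.Polynomial.Degree.Lemmas
import Mathlib.Algebra.Field.Basic
import Mathlib.LinearAlgebra.Matrix.Block
import Mathlib.Algebra.BigOperators.Fin

/-!
# The Cartier–Manin matrix under a translation
-/

namespace Groth.Agent.CartierManin

universe u

variable {k : Type u} [Field k] (p : ℕ) [Fact p.Prime] [CharP k p]

theorem cast_choose_eq (I i J j : ℕ) (hJ : J < p) (hj : j < p) :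
    ((Nat.choose ((I + 1) * p - (J + 1)) ((i + 1) * p - (j + 1)) : ℕ) : k) =
      (I.choose i : k) * ((p - (J + 1)).choose (p - (j + 1)) : k) := by
  have key : ∀ I J : ℕ, J < p → ((I + 1) * p - (J + 1)) % p = p - (J + 1) ∧
      ((I + 1) * p - (J + 1)) / p = I := by
    intro I J hJ
    have h : (I + 1) * p - (J + 1) = (p - (J + 1)) + p * I := by
      rw [add_mul, one_mul, mul_comm I p]; omega
    rw [h, Nat.add_mul_mod_self_left, Nat.mod_eq_of_lt (by omega),
      Nat.add_mul_div_left _ _ (by omega), Nat.div_eq_of_lt (by omega)]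
    simp
  have h := @Choose.choose_modEq_choose_mod_mul_choose_div_nat
    ((I + 1) * p - (J + 1)) ((i + 1) * p - (j + 1)) p _
  rw [(key I J hJ).1, (key I J hJ).2, (key i j hj).1, (key i j hj).2] at h
  rw [(CharP.natCast_eq_natCast k p).2 h, Nat.cast_mul, mul_comm]

theorem coeff_comp_X_add_C (h : Polynomial k) (α : k) {D : ℕ} (hD : h.natDegree < D) (n : ℕ) :
    (h.comp (Polynomial.X + Polynomial.C α)).coeff n =
      ∑ l ∈ Finset.range D, h.coeff l * ((l.choose n : k) * α ^ (l - n)) := by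
  conv_lhs => rw [h.as_sum_range' D hD]
  rw [Polynomial.sum_comp, Polynomial.finsetSum_coeff]
  refine Finset.sum_congr rfl fun l _ => ?_
  rw [← Polynomial.C_mul_X_pow_eq_monomial, Polynomial.mul_comp, Polynomial.C_comp,
    Polynomial.X_pow_comp, Polynomial.coeff_C_mul, Polynomial.coeff_X_add_C_pow, mul_comm (α ^ _)]

/-- Sum over `range ((g+1)p)` in the coordinates `(I, J) ↦ (I + 1) p - (J + 1)`. -/
theorem sum_range_eq (g : ℕ) (F : ℕ → k) :
    ∑ l ∈ Finset.range ((g + 1) * p), F l =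
      ∑ I ∈ Finset.range (g + 1), ∑ J ∈ Finset.range p, F ((I + 1) * p - (J + 1)) := by
  induction g with
  | zero =>
    simp only [zero_add, one_mul, Finset.range_one, Finset.sum_singleton]
    rw [← Finset.sum_range_reflect]
    exact Finset.sum_congr rfl fun J _ => congrArg F (by omega)
  | succ g ih =>
    rw [show (g + 1 + 1) * p = (g + 1) * p + p by ring, Finset.sum_range_add, ih]
    conv_rhs => rw [Finset.sum_range_succ]
    congr 1
    rw [← Finset.sum_range_reflect]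
    refine Finset.sum_congr rfl fun J hJ => congrArg F ?_
    rw [Finset.mem_range] at hJ
    rw [show (g + 1 + 1) * p = (g + 1) * p + p by ring]
    omega

/-- The Cartier–Manin matrix of `f` with `m`-th power. -/
theorem cartierManin_comp (g : ℕ) (hg : g ≤ p) (h : Polynomial k)
    (hh : h.natDegree ≤ (g + 1) * (p - 1)) (α : k) (i j : Fin g) :
    (h.comp (Polynomial.X + Polynomial.C α)).coeff (((i : ℕ) + 1) * p - ((j : ℕ) + 1)) =
      ∑ I : Fin g, ∑ J : Fin g, (((I : ℕ).choose (i : ℕ) : ℕ) : k) * α ^ (((I : ℕ) - (i : ℕ)) * p) *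
        h.coeff (((I : ℕ) + 1) * p - ((J : ℕ) + 1)) *
          ((((p - ((J : ℕ) + 1)).choose (p - ((j : ℕ) + 1)) : ℕ) : k) * α ^ ((j : ℕ) - (J : ℕ))) := by
  have hp : 2 ≤ p := (Fact.out : p.Prime).two_le
  have hD : h.natDegree < (g + 1) * p :=
    hh.trans_lt (Nat.mul_lt_mul_of_pos_left (by omega) (by omega))
  rw [coeff_comp_X_add_C h α hD, sum_range_eq p g]
  have hterm : ∀ I J : ℕ, J < p →
      h.coeff ((I + 1) * p - (J + 1)) *
        ((Nat.choose ((I + 1) * p - (J + 1)) (((i : ℕ) + 1) * p - ((j : ℕ) + 1)) : k) *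
          α ^ ((I + 1) * p - (J + 1) - (((i : ℕ) + 1) * p - ((j : ℕ) + 1)))) =
      (((I.choose (i : ℕ) : ℕ) : k) * α ^ ((I - (i : ℕ)) * p)) *
        h.coeff ((I + 1) * p - (J + 1)) *
          ((((p - (J + 1)).choose (p - ((j : ℕ) + 1)) : ℕ) : k) * α ^ ((j : ℕ) - J)) := by
    intro I J hJ
    have hj : (j : ℕ) < p := j.2.trans_le hg
    rw [cast_choose_eq p I i J j hJ hj]
    by_cases h1 : (i : ℕ) ≤ I
    · by_cases h2 : J ≤ (j : ℕ)
      · have he : (I + 1) * p - (J + 1) - (((i : ℕ) + 1) * p - ((j : ℕ) + 1)) =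
            (I - (i : ℕ)) * p + ((j : ℕ) - J) := by
          obtain ⟨a, rfl⟩ := Nat.exists_eq_add_of_le h1
          rw [Nat.add_sub_cancel_left, show ((i : ℕ) + a + 1) * p = ((i : ℕ) + 1) * p + a * p by ring]
          have : p ≤ ((i : ℕ) + 1) * p := Nat.le_mul_of_pos_left p (Nat.succ_pos _)
          omega
        rw [he, pow_add]; ring
      · rw [Nat.choose_eq_zero_of_lt (show p - (J + 1) < p - ((j : ℕ) + 1) by omega)]
        simp
    · rw [Nat.choose_eq_zero_of_lt (show I < (i : ℕ) by omega)]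
      simp
  rw [Finset.sum_range_succ]
  have hlast : ∀ J ∈ Finset.range p,
      h.coeff ((g + 1) * p - (J + 1)) *
        ((Nat.choose ((g + 1) * p - (J + 1)) (((i : ℕ) + 1) * p - ((j : ℕ) + 1)) : k) *
          α ^ ((g + 1) * p - (J + 1) - (((i : ℕ) + 1) * p - ((j : ℕ) + 1)))) = 0 := by
    intro J hJ
    rw [Finset.mem_range] at hJ
    rw [hterm g J hJ]
    by_cases hJg : J < g
    · rw [Polynomial.coeff_eq_zero_of_natDegree_lt, mul_zero, zero_mul]
      refine hh.trans_lt ?_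
      have h1 : (g + 1) * p = (g + 1) * (p - 1) + (g + 1) := by
        conv_lhs => rw [show p = p - 1 + 1 by omega, mul_add, mul_one]
      omega
    · rw [Nat.choose_eq_zero_of_lt (show p - (J + 1) < p - ((j : ℕ) + 1) by omega)]
      simp
  rw [Finset.sum_eq_zero hlast, add_zero, ← Fin.sum_univ_eq_sum_range]
  refine Finset.sum_congr rfl fun I _ => ?_
  rw [← Finset.sum_range_add_sum_Ico _ hg, ← Fin.sum_univ_eq_sum_range]
  have hbig : ∀ J ∈ Finset.Ico g p,
      h.coeff (((I : ℕ) + 1) * p - (J + 1)) *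
        ((Nat.choose (((I : ℕ) + 1) * p - (J + 1)) (((i : ℕ) + 1) * p - ((j : ℕ) + 1)) : k) *
          α ^ (((I : ℕ) + 1) * p - (J + 1) - (((i : ℕ) + 1) * p - ((j : ℕ) + 1)))) = 0 := by
    intro J hJ
    rw [Finset.mem_Ico] at hJ
    rw [hterm I J hJ.2, Nat.choose_eq_zero_of_lt (show p - (J + 1) < p - ((j : ℕ) + 1) by omega)]
    simp
  rw [Finset.sum_eq_zero hbig, add_zero]
  exact Finset.sum_congr rfl fun J _ => hterm I J (J.2.trans_le hg)

/-- The Cartier–Manin matrices of `f` and of `f(X + α)`. -/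
theorem cartierManin_comp_matrix (g : ℕ) (hg : g ≤ p) (f : Polynomial k)
    (hf : f.natDegree ≤ 2 * g + 2) (α : k) :
    (Matrix.of fun i j : Fin g =>
        ((f.comp (Polynomial.X + Polynomial.C α)) ^ ((p - 1) / 2)).coeff
          (((i : ℕ) + 1) * p - ((j : ℕ) + 1))) =
      (Matrix.of fun i I : Fin g => (((I : ℕ).choose (i : ℕ) : ℕ) : k) * α ^ (((I : ℕ) - (i : ℕ)) * p)) *
        (Matrix.of fun i j : Fin g => (f ^ ((p - 1) / 2)).coeff (((i : ℕ) + 1) * p - ((j : ℕ) + 1))) *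
        (Matrix.of fun J j : Fin g =>
          (((p - ((J : ℕ) + 1)).choose (p - ((j : ℕ) + 1)) : ℕ) : k) * α ^ ((j : ℕ) - (J : ℕ))) := by
  have hh : (f ^ ((p - 1) / 2)).natDegree ≤ (g + 1) * (p - 1) := by
    refine Polynomial.natDegree_pow_le.trans ((Nat.mul_le_mul_left _ hf).trans ?_)
    have : (p - 1) / 2 * 2 ≤ p - 1 := Nat.div_mul_le_self _ _
    calc (p - 1) / 2 * (2 * g + 2) = (p - 1) / 2 * 2 * (g + 1) := by ring
      _ ≤ (p - 1) * (g + 1) := Nat.mul_le_mul_right _ this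
      _ = (g + 1) * (p - 1) := mul_comm _ _
  ext i j
  rw [Matrix.of_apply, ← Polynomial.pow_comp, cartierManin_comp p g hg _ hh α i j, Matrix.mul_apply]
  simp only [Matrix.mul_apply, Matrix.of_apply, Finset.sum_mul]
  rw [Finset.sum_comm]

theorem det_left (g : ℕ) (α : k) :
    (Matrix.of fun i I : Fin g =>
      (((I : ℕ).choose (i : ℕ) : ℕ) : k) * α ^ (((I : ℕ) - (i : ℕ)) * p)).det = 1 := by
  rw [Matrix.det_of_isUpperTriangular ?_]
  · exact Finset.prod_eq_one fun i _ => by simp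
  · intro i j hij
    have hij' : (j : ℕ) < (i : ℕ) := hij
    simp [Nat.choose_eq_zero_of_lt hij']

omit [Fact p.Prime] [CharP k p] in
theorem det_right (g : ℕ) (hg : g ≤ p) (α : k) :
    (Matrix.of fun J j : Fin g =>
      (((p - ((J : ℕ) + 1)).choose (p - ((j : ℕ) + 1)) : ℕ) : k) * α ^ ((j : ℕ) - (J : ℕ))).det = 1 := by
  rw [Matrix.det_of_isUpperTriangular ?_]
  · exact Finset.prod_eq_one fun i _ => by simp
  · intro i j hij
    have hij' : (j : ℕ) < (i : ℕ) := hij
    have := i.2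
    simp [Nat.choose_eq_zero_of_lt (show p - ((i : ℕ) + 1) < p - ((j : ℕ) + 1) by omega)]

end Groth.Agent.CartierManin
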